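import Cfsg.Agent.Lib.Comp.X9.Base

set_option maxRecDepth 100000
set_option Elab.async false

namespace Cfsg.Lib.Comp.X9

universe u

noncomputable def T2_R : List (List ℕ × ℕ) := [([1],3),
 ([1,1,4,4],0),
 ([1,1,6,6],0),
 ([1,1,8,8],0),
 ([1,3,1,4],0),
 ([5,7,5,8],0),
 ([1,5,2,6],0),
 ([1,7,2,8],0),
 ([3,5,4,6],0),
 ([3,7,4,8],0),
 ([9],2),
 ([9,1,10,4],0),
 ([9,3,10,4,2],0),
 ([9,5,10,8],0),
 ([9,7,10,8,6],0),
 ([11],1),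
 ([11,9],1),
 ([11,1,11,5],0),
 ([11,5,11,1],0),
 ([1,2],0),
 ([3,4],0),
 ([5,6],0),
 ([7,8],0),
 ([9,10],0)]

noncomputable def T2_n_11 : Net :=
 (Net.cons 1 (nat_lit 0x1)
 Net.nil)

noncomputable def T2_n : List Net := [Net.nil,
 Net.nil,
 Net.nil,
 Net.nil,
 Net.nil,
 Net.nil,
 Net.nil,
 Net.nil,
 Net.nil,
 Net.nil,
 Net.nil,
 T2_n_11]

theorem T2_n_ok : NetsOK 2 T2_n := netsOK_of (by decide +kernel)

theorem T2_n_rel : Rels (gp T2_n) T2_R := rels_of_relsB (k := 1) T2_n_ok (by norm_num) (by decide +kernel)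

theorem T2_fin : finB 2 T2_n [1,2,3,4,5,6,7,8,9,10,11] 2 (runH 2 T2_n (fun x p => ptInv (nth Net.nil T2_n x) p) iv T2_R [] ([1,2,3,4,5,6,7,8,9,10].map fun x => [x]) 0 []
  [1,5,9,13,17,21,25,29,33,37,60,64,68,76,84,92,44,48,52,56]
  (defsH 2 T2_n (ones 34) [11] (Nat.shiftLeft 1 0) 0)) = true := by decide +kernel

theorem T2_idx : Idx.{u} iv (T2_R ++ []) ([1,2,3,4,5,6,7,8,9,10].map fun x => [x]) [1,2,3,4,5,6,7,8,9,10,11] 2 :=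
  Reach.idx T2_n_ok (reach_runH T2_n_ok (fun x p _ => ptInv_gp T2_n_ok x p) T2_n_rel (reach_defsH T2_n_ok _ _ _ _ _ _) _ _) T2_fin (by norm_num)

end Cfsg.Lib.Comp.X9
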