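import Cfsg.Agent.Lib.Comp.X9.Base

set_option maxRecDepth 100000
set_option Elab.async false

namespace Cfsg.Lib.Comp.X9

universe u

noncomputable def nets_1 : Net :=
 (Net.cons 1 (nat_lit 0x84)
 (Net.cons 1 (nat_lit 0x4a)
 (Net.cons 1 (nat_lit 0xa4)
 (Net.cons 1 (nat_lit 0x42)
 Net.nil))))

noncomputable def nets_3 : Net :=
 (Net.cons 5 (nat_lit 0x18)
 (Net.cons 1 (nat_lit 0xa4)
 (Net.cons 1 (nat_lit 0x142)
 (Net.cons 1 (nat_lit 0xa0)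
 (Net.cons 1 (nat_lit 0x140)
 (Net.cons 1 (nat_lit 0x80)
 (Net.cons 5 (nat_lit 0x1c)
 Net.nil)))))))

noncomputable def nets_5 : Net :=
 (Net.cons 5 (nat_lit 0xc)
 (Net.cons 1 (nat_lit 0x48)
 (Net.cons 1 (nat_lit 0x24)
 (Net.cons 5 (nat_lit 0x6)
 Net.nil))))

noncomputable def nets_7 : Net :=
 (Net.cons 1 (nat_lit 0x84)
 (Net.cons 1 (nat_lit 0x4a)
 (Net.cons 1 (nat_lit 0xa4)
 (Net.cons 1 (nat_lit 0x48)
 Net.nil))))

noncomputable def nets_9 : Net :=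
 (Net.cons 5 (nat_lit 0xa)
 (Net.cons 1 (nat_lit 0xa0)
 (Net.cons 1 (nat_lit 0x4a)
 (Net.cons 1 (nat_lit 0x24)
 (Net.cons 1 (nat_lit 0x2)
 (Net.cons 5 (nat_lit 0xa)
 Net.nil))))))

noncomputable def nets_11 : Net :=
 (Net.cons 5 (nat_lit 0x14)
 (Net.cons 1 (nat_lit 0x24)
 (Net.cons 1 (nat_lit 0x142)
 (Net.cons 1 (nat_lit 0xa0)
 (Net.cons 1 (nat_lit 0x140)
 (Net.cons 1 (nat_lit 0xa0)
 (Net.cons 5 (nat_lit 0x1a)
 Net.nil)))))))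

noncomputable def nets_12 : Net :=
 (Net.cons 5 (nat_lit 0x18)
 (Net.cons 1 (nat_lit 0x24)
 (Net.cons 1 (nat_lit 0x142)
 (Net.cons 1 (nat_lit 0x80)
 (Net.cons 1 (nat_lit 0x140)
 (Net.cons 5 (nat_lit 0x18)
 Net.nil))))))

noncomputable def nets_14 : Net :=
 (Net.cons 5 (nat_lit 0x18)
 (Net.cons 1 (nat_lit 0x20)
 (Net.cons 1 (nat_lit 0x142)
 (Net.cons 1 (nat_lit 0x84)
 (Net.cons 1 (nat_lit 0x140)
 (Net.cons 5 (nat_lit 0x18)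
 Net.nil))))))

noncomputable def nets_16 : Net :=
 (Net.cons 1 (nat_lit 0x25)
 (Net.cons 1 (nat_lit 0x2)
 (Net.cons 1 (nat_lit 0x5)
 Net.nil)))

noncomputable def nets_64 : Net :=
 (Net.cons 5 (nat_lit 0x18)
 (Net.cons 1 (nat_lit 0x84)
 (Net.cons 1 (nat_lit 0x40)
 (Net.cons 1 (nat_lit 0xa0)
 (Net.cons 1 (nat_lit 0x100)
 (Net.cons 5 (nat_lit 0x18)
 Net.nil))))))

noncomputable def nets_66 : Net :=
 (Net.cons 5 (nat_lit 0xc)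
 (Net.cons 1 (nat_lit 0xa4)
 (Net.cons 1 (nat_lit 0x40)
 (Net.cons 1 (nat_lit 0x80)
 (Net.cons 5 (nat_lit 0x8)
 Net.nil)))))

noncomputable def nets_68 : Net :=
 (Net.cons 5 (nat_lit 0x10)
 (Net.cons 1 (nat_lit 0x20)
 (Net.cons 1 (nat_lit 0x40)
 (Net.cons 1 (nat_lit 0xa0)
 (Net.cons 1 (nat_lit 0x140)
 (Net.cons 5 (nat_lit 0x10)
 Net.nil))))))

noncomputable def nets_70 : Net :=
 (Net.cons 1 (nat_lit 0x20)
 (Net.cons 1 (nat_lit 0x40)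
 (Net.cons 1 (nat_lit 0xa0)
 Net.nil)))

noncomputable def nets_72 : Net :=
 (Net.cons 1 (nat_lit 0x80)
 (Net.cons 1 (nat_lit 0x40)
 (Net.cons 1 (nat_lit 0xa0)
 Net.nil)))

noncomputable def nets_74 : Net :=
 (Net.cons 1 (nat_lit 0x40)
 (Net.cons 1 (nat_lit 0x80)
 Net.nil))

noncomputable def nets : List Net := (apd [Net.nil,
 nets_1,
 Net.rev nets_1,
 nets_3,
 Net.rev nets_3,
 nets_5,
 Net.rev nets_5,
 nets_7,
 Net.rev nets_7,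
 nets_9,
 Net.rev nets_9,
 nets_11,
 nets_12,
 Net.rev nets_12,
 nets_14,
 Net.rev nets_14,
 nets_16,
 Net.nil,
 Net.nil,
 Net.nil,
 Net.nil,
 Net.nil,
 Net.nil,
 Net.nil,
 Net.nil,
 Net.nil,
 Net.nil,
 Net.nil,
 Net.nil,
 Net.nil,
 Net.nil,
 Net.nil,
 Net.nil,
 Net.nil,
 Net.nil,
 Net.nil,
 Net.nil,
 Net.nil,
 Net.nil,
 Net.nil]
 [Net.nil,
 Net.nil,
 Net.nil,
 Net.nil,
 Net.nil,
 Net.nil,
 Net.nil,
 Net.nil,
 Net.nil,
 Net.nil,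
 Net.nil,
 Net.nil,
 Net.nil,
 Net.nil,
 Net.nil,
 Net.nil,
 Net.nil,
 Net.nil,
 Net.nil,
 Net.nil,
 Net.nil,
 Net.nil,
 Net.nil,
 Net.nil,
 nets_64,
 Net.rev nets_64,
 nets_66,
 Net.rev nets_66,
 nets_68,
 Net.rev nets_68,
 nets_70,
 Net.rev nets_70,
 nets_72,
 Net.rev nets_72,
 nets_74,
 Net.rev nets_74])

theorem nets_ok : NetsOK 10 nets := netsOK_of (by decide +kernel)

theorem nets_rel : Rels (gp nets) R := rels_of_relsB (k := 4) nets_ok (by norm_num) (by decide +kernel)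

theorem nets_iv : IvOK (gp nets) iv := ivOK_of_ivB (k := 4) nets_ok (by norm_num) (by decide +kernel)

noncomputable def slp : List (ℕ × List ℕ) := [(64,[4,13,11]),
 (65,[11,12,3]),
 (66,[15,11]),
 (67,[11,14]),
 (68,[66,10,64,9,65]),
 (69,[64,10,65,9,67]),
 (70,[9,69,9]),
 (71,[10,68,10]),
 (72,[68,70,68,68]),
 (73,[69,69,71,69]),
 (74,[71,73,70]),
 (75,[71,72,70])]

theorem slp_ok : slpB 10 4 nets slp L = true := by decide +kernel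

theorem mem_all {x : ℕ} (h : x ∈ L ++ slp.map (·.1)) : gp nets x ∈ cl (gp nets) L :=
  cl_eq_of_slpB nets_ok (by norm_num) slp_ok ▸ mem_cl h

theorem lb : 181440 ≤ Nat.card (cl (gp nets) L) := by
  rw [← cl_eq_of_slpB nets_ok (by norm_num) slp_ok]
  exact lb_of_chainB nets_ok (C := [([1,2,3,4,5,6,7,8,9,10,11,12,13,14,15,64,65,66,67,68,69,70,71,72,73,74,75],[16,1,3,64,1],0,0,9),
 ([9,10,64,65,66,67,68,69,70,71,72,73,74,75],[1,3,64,1],1,1,8),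
 ([9,10,68,69,70,71,72,73,74,75],[64,9,66,9],2,2,7),
 ([68,69,70,71,72,73,74,75],[9,9,68,9,9],3,3,6),
 ([70,71,72,73,74,75],[68,68,68,68],4,4,5),
 ([74,75],[70,70,72],5,5,4),
 ([],[74,74],6,6,3)]) (by decide +kernel)

end Cfsg.Lib.Comp.X9
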